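import Mathlib

/-!
# Elements of prime order normalizing a cyclic group

An element of prime order `p` which normalizes a cyclic group `⟨y⟩` of order prime to `p` and
centralizes its elements of prime order centralizes `y`.
-/

set_option autoImplicit false

namespace Cfsg.Agent.Lib.H4.ZGroup

open Subgroup

theorem commute_of_prime_order {G : Type*} [Group G] [Finite G] {a : G} {p : ℕ} (hp : p.Prime)
    (ha : a ^ p = 1) :
    ∀ (m : ℕ) (y : G), orderOf y = m → p.Coprime m → a⁻¹ * y * a ∈ zpowers y →
      (∀ q, q.Prime → q ∣ m → a * y ^ (m / q) = y ^ (m / q) * a) → a * y = y * a := by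
  intro m
  induction m using Nat.strong_induction_on with
  | _ m ih =>
    intro y hy hcop hnorm hq
    by_cases hm1 : m = 1
    · rw [hm1, orderOf_eq_one_iff] at hy
      rw [hy, mul_one, one_mul]
    have hm0 : 0 < m := by rw [← hy]; exact orderOf_pos y
    obtain ⟨q, hqdef⟩ : ∃ q, q = m.minFac := ⟨_, rfl⟩
    have hqp : q.Prime := by rw [hqdef]; exact Nat.minFac_prime hm1
    have hqm : q ∣ m := by rw [hqdef]; exact Nat.minFac_dvd m
    obtain ⟨m', hm'⟩ := hqm
    have hm'0 : 0 < m' := by
      rcases Nat.eq_zero_or_pos m' with h | h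
      · rw [h, mul_zero] at hm'; omega
      · exact h
    have hdiv : m / q = m' := by rw [hm']; exact Nat.mul_div_cancel_left _ hqp.pos
    have hm'lt : m' < m := by
      rw [hm']
      have := hqp.two_le
      nlinarith
    -- `a` commutes with `y ^ q`
    have hy1 : orderOf (y ^ q) = m' := by
      rw [orderOf_pow_of_dvd hqp.pos.ne' (by rw [hy, hm']; exact dvd_mul_right _ _), hy, hdiv]
    obtain ⟨j, hj⟩ := mem_zpowers_iff.1 hnorm
    have hc1 : a * y ^ q = y ^ q * a := by
      apply ih m' hm'lt (y ^ q) hy1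
      · exact Nat.Coprime.coprime_dvd_right (Dvd.intro_left q hm'.symm) hcop
      · rw [mem_zpowers_iff]
        refine ⟨j, ?_⟩
        have h1 : a⁻¹ * y ^ q * a = (a⁻¹ * y * a) ^ q := by
          have := conj_pow (a := a⁻¹) (b := y) (i := q)
          rw [inv_inv] at this
          exact this.symm
        rw [h1, ← hj, ← zpow_natCast, ← zpow_natCast, ← zpow_mul, ← zpow_mul, mul_comm]
      · intro q' hq'p hq'm
        obtain ⟨m'', hm''⟩ := hq'm
        have h2 : (y ^ q) ^ (m' / q') = y ^ (m / q') := by
          rw [← pow_mul]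
          congr 1
          rw [hm'', Nat.mul_div_cancel_left _ hq'p.pos, hm', hm'', ← mul_assoc, mul_comm q q',
            mul_assoc, Nat.mul_div_cancel_left _ hq'p.pos]
        rw [h2]
        exact hq q' hq'p ⟨q * m'', by rw [hm', hm'']; ring⟩
    -- the element `c = y⁻¹ * (a⁻¹ * y * a)`
    obtain ⟨c, hcdef⟩ : ∃ c, c = y⁻¹ * (a⁻¹ * y * a) := ⟨_, rfl⟩
    have hcy : a⁻¹ * y * a = y * c := by rw [hcdef]; group
    have hcz : c = y ^ (j - 1) := by
      rw [hcdef, ← hj, zpow_sub_one]
      exact ((Commute.refl y).inv_left.zpow_right j).eq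
    have hcomm_cy : Commute y c := by
      rw [hcz]
      exact (Commute.refl y).zpow_right _
    have hcq : c ^ q = 1 := by
      have h1 : (a⁻¹ * y * a) ^ q = y ^ q := by
        have := conj_pow (a := a⁻¹) (b := y) (i := q)
        rw [inv_inv] at this
        rw [this, mul_assoc, ← hc1]
        group
      rw [hcy, hcomm_cy.mul_pow] at h1
      exact mul_eq_left.1 h1
    -- `c` is a power of `y ^ (m / q)`, hence commutes with `a`
    have hac : a * c = c * a := by
      have hcmem : c ∈ zpowers y := by rw [hcz]; exact zpow_mem (mem_zpowers y) _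
      obtain ⟨i, hic⟩ : ∃ i : ℕ, y ^ i = c := by
        obtain ⟨i, hi⟩ := mem_zpowers_iff.1 hcmem
        refine ⟨(i % (orderOf y : ℤ)).toNat, ?_⟩
        rw [← zpow_natCast, Int.toNat_of_nonneg (Int.emod_nonneg _ (by
          have := orderOf_pos y
          exact_mod_cast this.ne')), zpow_mod_orderOf, hi]
      have h1 : y ^ (i * q) = 1 := by rw [pow_mul, hic, hcq]
      have h2 : m ∣ i * q := by rw [← hy]; exact orderOf_dvd_of_pow_eq_one h1
      have h3 : m' ∣ i := by
        rw [hm', mul_comm q m'] at h2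
        exact Nat.dvd_of_mul_dvd_mul_right hqp.pos h2
      obtain ⟨i', rfl⟩ := h3
      have h4 : c = (y ^ (m / q)) ^ i' := by rw [hdiv, ← pow_mul, hic]
      rw [h4]
      exact ((show Commute a (y ^ (m / q)) from hq q hqp ⟨m', hm'⟩).pow_right i').eq
    -- iterate
    have hiter : ∀ k : ℕ, (a ^ k)⁻¹ * y * a ^ k = y * c ^ k := by
      intro k
      induction k with
      | zero => simp
      | succ k ihk =>
        have h1 : (a ^ (k + 1))⁻¹ * y * a ^ (k + 1) = a⁻¹ * ((a ^ k)⁻¹ * y * a ^ k) * a := by
          rw [pow_succ]; group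
        rw [h1, ihk]
        have h2 : a⁻¹ * (y * c ^ k) * a = (a⁻¹ * y * a) * (a⁻¹ * c ^ k * a) := by group
        have h3 : a⁻¹ * c ^ k * a = c ^ k := by
          have : Commute a (c ^ k) := (show Commute a c from hac).pow_right k
          rw [mul_assoc, ← this.eq]
          group
        rw [h2, h3, hcy, pow_succ', mul_assoc]
    have hcp : c ^ p = 1 := by
      have := hiter p
      rw [ha, inv_one, one_mul, mul_one] at this
      exact (mul_eq_left.1 this.symm)
    have hc : c = 1 := by
      have h1 : orderOf c ∣ p := orderOf_dvd_of_pow_eq_one hcp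
      have h2 : orderOf c ∣ q := orderOf_dvd_of_pow_eq_one hcq
      have h3 : p.Coprime q := Nat.Coprime.coprime_dvd_right ⟨m', hm'⟩ hcop
      have h4 : orderOf c ∣ 1 := by
        rw [← h3]
        exact Nat.dvd_gcd h1 h2
      exact orderOf_eq_one_iff.1 (Nat.dvd_one.1 h4)
    rw [hc, mul_one] at hcy
    calc a * y = a * (a⁻¹ * y * a) := by rw [hcy]
      _ = y * a := by group

end Cfsg.Agent.Lib.H4.ZGroup
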