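import Mathlib
import Cfsg.Agent.Lib.H4.NF.AbCyc

/-!
# Finite groups with cyclic Sylow subgroups are metacyclic
-/

set_option autoImplicit false

namespace Cfsg.Agent.Lib.H4.ZGroup

open Subgroup

/-- if two generators commute modulo a normal subgroup, the commutator subgroup lies in it -/
theorem commutator_le_of_gen {B : Type*} [Group B] (M : Subgroup B) [M.Normal] {x y : B}
    (hgen : closure {x, y} = ⊤) (hxy : x⁻¹ * y * x * y⁻¹ ∈ M) : commutator B ≤ M := by
  rw [← Subgroup.Normal.quotient_commutative_iff_commutator_le]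
  let π := QuotientGroup.mk' M
  have hgen' : closure {π x, π y} = ⊤ := by
    have h1 : (closure {x, y}).map π = ⊤ := by
      rw [hgen, ← MonoidHom.range_eq_map, MonoidHom.range_eq_top]
      exact QuotientGroup.mk'_surjective M
    rw [MonoidHom.map_closure] at h1
    rw [← h1]
    congr 1
    ext z
    simp [Set.image_pair]
  have hc : π x * π y = π y * π x := by
    have h1 : π (x⁻¹ * y * x * y⁻¹) = 1 := (QuotientGroup.eq_one_iff _).2 hxy
    rw [map_mul, map_mul, map_mul, map_inv, map_inv] at h1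
    have h2 : (π x)⁻¹ * π y * π x = π y := mul_inv_eq_one.1 h1
    calc π x * π y = π x * ((π x)⁻¹ * π y * π x) := by rw [h2]
      _ = π y * π x := by group
  have hcomm : IsMulCommutative (closure {π x, π y}) := by
    apply Cfsg.Agent.Lib.H4.NF.closure_isMulCommutative
    rintro a (rfl | rfl) b (rfl | rfl)
    · rfl
    · exact hc
    · exact hc.symm
    · rfl
  refine ⟨⟨fun u v => ?_⟩⟩
  have hu : u ∈ closure {π x, π y} := by rw [hgen']; trivial
  have hv : v ∈ closure {π x, π y} := by rw [hgen']; trivial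
  have := hcomm.is_comm.comm ⟨u, hu⟩ ⟨v, hv⟩
  exact congrArg Subtype.val this

/-- conjugation by any element maps a generator of a normal cyclic subgroup to a power -/
theorem zpowers_pow_normal {G : Type*} [Group G] {y : G} (hN : (zpowers y).Normal) (k : ℕ) :
    (zpowers (y ^ k)).Normal := by
  refine ⟨fun n hn g => ?_⟩
  obtain ⟨j, rfl⟩ := mem_zpowers_iff.1 hn
  obtain ⟨i, hi⟩ := mem_zpowers_iff.1 (hN.conj_mem y (mem_zpowers y) g)
  have h1 : g * (y ^ k) ^ j * g⁻¹ = ((y ^ k) ^ j) ^ i := by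
    have h2 : g * (y ^ k) ^ j * g⁻¹ = ((g * y * g⁻¹) ^ k) ^ j := by
      rw [conj_pow, conj_zpow]
    rw [h2, ← hi]
    rw [← zpow_natCast, ← zpow_natCast, ← zpow_mul, ← zpow_mul, ← zpow_mul, ← zpow_mul]
    congr 1
    ring
  rw [h1]
  exact zpow_mem (zpow_mem (mem_zpowers _) _) _

theorem exists_metacyclic (G : Type*) [Group G] [Finite G] [IsZGroup G] :
    ∃ (x y : G) (n m r : ℕ), 0 < n ∧ 0 < m ∧ orderOf x = n ∧ orderOf y = m ∧ n.Coprime m ∧ 1 ≤ r ∧
      x⁻¹ * y * x = y ^ r ∧ closure {x, y} = ⊤ ∧ Nat.card G = n * m ∧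
      zpowers y = commutator G ∧ (r - 1).Coprime m := by
  classical
  have hcop := IsZGroup.coprime_commutator_index G
  obtain ⟨H, hH⟩ := Subgroup.exists_right_complement'_of_coprime hcop
  haveI : IsCyclic (commutator G) := IsZGroup.isCyclic_commutator G
  have h1 : Abelianization G ≃* H := hH.symm.QuotientMulEquiv
  haveI : IsCyclic H := isCyclic_of_surjective _ h1.surjective
  obtain ⟨y₀, hy₀⟩ := IsCyclic.exists_generator (α := commutator G)
  obtain ⟨x₀, hx₀⟩ := IsCyclic.exists_generator (α := H)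
  have hyN : zpowers (y₀ : G) = commutator G := by
    apply le_antisymm
    · rw [zpowers_le]; exact y₀.2
    · intro g hg
      obtain ⟨k, hk⟩ := mem_zpowers_iff.1 (hy₀ ⟨g, hg⟩)
      rw [mem_zpowers_iff]
      exact ⟨k, by have := congrArg Subtype.val hk; simpa using this⟩
  have hxH : zpowers (x₀ : G) = H := by
    apply le_antisymm
    · rw [zpowers_le]; exact x₀.2
    · intro g hg
      obtain ⟨k, hk⟩ := mem_zpowers_iff.1 (hx₀ ⟨g, hg⟩)
      rw [mem_zpowers_iff]
      exact ⟨k, by have := congrArg Subtype.val hk; simpa using this⟩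
  have hordy : orderOf (y₀ : G) = Nat.card (commutator G) := by
    rw [← Nat.card_zpowers, hyN]
  have hordx : orderOf (x₀ : G) = Nat.card H := by
    rw [← Nat.card_zpowers, hxH]
  have hcard : Nat.card G = Nat.card H * Nat.card (commutator G) := by
    rw [← hH.card_mul_card, mul_comm]
  have hNn : (zpowers (y₀ : G)).Normal := by rw [hyN]; infer_instance
  obtain ⟨k, hk⟩ := mem_zpowers_iff.1 (hNn.conj_mem _ (mem_zpowers (y₀ : G)) (x₀ : G)⁻¹)
  rw [inv_inv] at hk
  have hm0 : 0 < orderOf (y₀ : G) := orderOf_pos _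
  obtain ⟨r, hr1, hr⟩ : ∃ r : ℕ, 1 ≤ r ∧ (y₀ : G) ^ r = (x₀ : G)⁻¹ * y₀ * x₀ := by
    refine ⟨(k % (orderOf (y₀ : G) : ℤ)).toNat + orderOf (y₀ : G), by omega, ?_⟩
    rw [pow_add, pow_orderOf_eq_one, mul_one, ← zpow_natCast, Int.toNat_of_nonneg
      (Int.emod_nonneg _ (by exact_mod_cast hm0.ne')), zpow_mod_orderOf, hk]
  have hgen : closure {(x₀ : G), (y₀ : G)} = ⊤ := by
    have : closure {(x₀ : G), (y₀ : G)} = zpowers (x₀ : G) ⊔ zpowers (y₀ : G) := by
      rw [zpowers_eq_closure, zpowers_eq_closure, ← Subgroup.closure_union]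
      rfl
    rw [this, hxH, hyN, sup_comm]
    exact hH.sup_eq_top
  refine ⟨x₀, y₀, Nat.card H, Nat.card (commutator G), r, Nat.card_pos, Nat.card_pos, hordx, hordy,
    ?_, hr1, hr.symm, hgen, hcard, hyN, ?_⟩
  · have : (commutator G).index = Nat.card H := by
      have h2 := hH.card_mul_card
      have h3 := (commutator G).card_mul_index
      have h4 : 0 < Nat.card (commutator G) := Nat.card_pos
      rw [← h3] at h2
      exact (Nat.eq_of_mul_eq_mul_left h4 h2).symm
    rw [this] at hcop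
    exact hcop.symm
  · -- `G' = ⟨y⟩` lies in `⟨y ^ (r - 1)⟩`
    haveI := zpowers_pow_normal hNn (r - 1)
    have hle : commutator G ≤ zpowers ((y₀ : G) ^ (r - 1)) := by
      apply commutator_le_of_gen _ hgen
      rw [← hr, mem_zpowers_iff]
      refine ⟨1, ?_⟩
      rw [zpow_one, eq_mul_inv_iff_mul_eq, ← pow_succ, Nat.sub_add_cancel hr1]
    have hc1 : Nat.card (zpowers (y₀ : G)) ≤ Nat.card (zpowers ((y₀ : G) ^ (r - 1))) :=
      Subgroup.card_le_of_le (hyN.le.trans hle)
    rw [Nat.card_zpowers, Nat.card_zpowers, orderOf_pow, hordy] at hc1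
    have hg0 : 0 < Nat.gcd (Nat.card (commutator G)) (r - 1) :=
      Nat.gcd_pos_of_pos_left _ Nat.card_pos
    rw [Nat.coprime_comm]
    show Nat.gcd (Nat.card (commutator G)) (r - 1) = 1
    by_contra hne
    have hg2 : 1 < Nat.gcd (Nat.card (commutator G)) (r - 1) := by omega
    have := Nat.div_lt_self (Nat.card_pos (α := commutator G)) hg2
    omega

end Cfsg.Agent.Lib.H4.ZGroup
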