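import Mathlib

/-!
# Metacyclic presentations

The group `⟨x, y | x ^ n, y ^ m, x⁻¹ y x = y ^ r⟩` has at most `n * m` elements; a group of order
`n * m` generated by two elements satisfying the relations is isomorphic to it.
-/

set_option autoImplicit false

namespace Cfsg.Agent.Lib.H4.ZGroup

/-- the relators of the metacyclic presentation -/
def rels (n m r : ℕ) : Set (FreeGroup (Fin 2)) :=
  {FreeGroup.of (0 : Fin 2) ^ n, FreeGroup.of (1 : Fin 2) ^ m,
    (FreeGroup.of (0 : Fin 2))⁻¹ * FreeGroup.of 1 * FreeGroup.of 0 * (FreeGroup.of (1 : Fin 2) ^ r)⁻¹}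

section comm

variable {P : Type*} [Group P] {X Y : P} {r : ℕ}

theorem conj_pow_eq (h : X⁻¹ * Y * X = Y ^ r) (a : ℕ) : X⁻¹ * Y ^ a * X = Y ^ (r * a) := by
  have := conj_pow (a := X⁻¹) (b := Y) (i := a)
  rw [inv_inv] at this
  rw [← this, h, pow_mul]

theorem conj_pow_pow_eq (h : X⁻¹ * Y * X = Y ^ r) (a b : ℕ) :
    (X ^ b)⁻¹ * Y ^ a * X ^ b = Y ^ (a * r ^ b) := by
  induction b with
  | zero => simp
  | succ b ih =>
    have h1 : (X ^ (b + 1))⁻¹ * Y ^ a * X ^ (b + 1) = X⁻¹ * ((X ^ b)⁻¹ * Y ^ a * X ^ b) * X := by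
      rw [pow_succ]
      group
    rw [h1, ih, conj_pow_eq h]
    congr 1
    ring

theorem pow_mul_pow_comm (h : X⁻¹ * Y * X = Y ^ r) (a b : ℕ) :
    Y ^ a * X ^ b = X ^ b * Y ^ (a * r ^ b) := by
  rw [← conj_pow_pow_eq h a b]
  group

end comm

section bound

variable (n m r : ℕ)

local notation "PG" => PresentedGroup (rels n m r)

theorem X_pow : (PresentedGroup.of (0 : Fin 2) : PG) ^ n = 1 := by
  have : PresentedGroup.mk (rels n m r) (FreeGroup.of (0 : Fin 2) ^ n) = 1 :=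
    PresentedGroup.one_of_mem (by simp [rels])
  rwa [map_pow] at this

theorem Y_pow : (PresentedGroup.of (1 : Fin 2) : PG) ^ m = 1 := by
  have : PresentedGroup.mk (rels n m r) (FreeGroup.of (1 : Fin 2) ^ m) = 1 :=
    PresentedGroup.one_of_mem (by simp [rels])
  rwa [map_pow] at this

theorem XY_rel : (PresentedGroup.of (0 : Fin 2) : PG)⁻¹ * PresentedGroup.of 1 * PresentedGroup.of 0 =
    (PresentedGroup.of (1 : Fin 2) : PG) ^ r := by
  have : PresentedGroup.mk (rels n m r) ((FreeGroup.of (0 : Fin 2))⁻¹ * FreeGroup.of 1 *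
      FreeGroup.of 0 * (FreeGroup.of (1 : Fin 2) ^ r)⁻¹) = 1 :=
    PresentedGroup.one_of_mem (by simp [rels])
  rw [map_mul, map_mul, map_mul, map_inv, map_inv, map_pow] at this
  exact mul_inv_eq_one.1 this

/-- every element has the normal form `X ^ i * Y ^ j` -/
theorem exists_normal_form (hn : 0 < n) (hm : 0 < m) (g : PG) :
    ∃ i j : ℕ, i < n ∧ j < m ∧
      g = (PresentedGroup.of (0 : Fin 2) : PG) ^ i * (PresentedGroup.of (1 : Fin 2) : PG) ^ j := by
  set X : PG := PresentedGroup.of (0 : Fin 2) with hX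
  set Y : PG := PresentedGroup.of (1 : Fin 2) with hY
  have hXn : X ^ n = 1 := X_pow n m r
  have hYm : Y ^ m = 1 := Y_pow n m r
  have hrel : X⁻¹ * Y * X = Y ^ r := XY_rel n m r
  have hXinv : X⁻¹ = X ^ (n - 1) := by
    apply inv_eq_of_mul_eq_one_right
    rw [← pow_succ', Nat.sub_add_cancel hn, hXn]
  have hYinv : Y⁻¹ = Y ^ (m - 1) := by
    apply inv_eq_of_mul_eq_one_right
    rw [← pow_succ', Nat.sub_add_cancel hm, hYm]
  let H : Subgroup PG :=
    { carrier := {g | ∃ i j : ℕ, g = X ^ i * Y ^ j}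
      one_mem' := ⟨0, 0, by simp⟩
      mul_mem' := by
        rintro _ _ ⟨i, j, rfl⟩ ⟨k, l, rfl⟩
        refine ⟨i + k, j * r ^ k + l, ?_⟩
        rw [mul_assoc, ← mul_assoc (Y ^ j), pow_mul_pow_comm hrel, pow_add, pow_add]
        group
      inv_mem' := by
        rintro _ ⟨i, j, rfl⟩
        refine ⟨(n - 1) * i, (m - 1) * j * r ^ ((n - 1) * i), ?_⟩
        rw [mul_inv_rev, ← inv_pow, ← inv_pow, hXinv, hYinv, ← pow_mul, ← pow_mul,
          pow_mul_pow_comm hrel] }
  have hall : g ∈ H := by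
    apply PresentedGroup.generated_by
    intro j
    fin_cases j
    · exact ⟨1, 0, by simp [hX]⟩
    · exact ⟨0, 1, by simp [hY]⟩
  obtain ⟨i, j, rfl⟩ := hall
  refine ⟨i % n, j % m, Nat.mod_lt _ hn, Nat.mod_lt _ hm, ?_⟩
  rw [← pow_eq_pow_mod i hXn, ← pow_eq_pow_mod j hYm]

theorem finite_and_card_le (hn : 0 < n) (hm : 0 < m) :
    Finite PG ∧ Nat.card PG ≤ n * m := by
  let f : Fin n × Fin m → PG := fun p =>
    (PresentedGroup.of (0 : Fin 2) : PG) ^ (p.1 : ℕ) * (PresentedGroup.of (1 : Fin 2) : PG) ^ (p.2 : ℕ)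
  have hf : Function.Surjective f := by
    intro g
    obtain ⟨i, j, hi, hj, rfl⟩ := exists_normal_form n m r hn hm g
    exact ⟨(⟨i, hi⟩, ⟨j, hj⟩), rfl⟩
  haveI : Finite PG := Finite.of_surjective f hf
  refine ⟨inferInstance, ?_⟩
  have := Nat.card_le_card_of_surjective f hf
  simpa using this

end bound

/-- recognition of the metacyclic presentation -/
theorem nonempty_mulEquiv {G : Type*} [Group G] [Finite G] {n m r : ℕ} (hn : 0 < n) (hm : 0 < m)
    {x y : G} (hx : x ^ n = 1) (hy : y ^ m = 1) (hxy : x⁻¹ * y * x = y ^ r)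
    (hgen : Subgroup.closure {x, y} = ⊤) (hcard : Nat.card G = n * m) :
    Nonempty (G ≃* PresentedGroup (rels n m r)) := by
  let f : Fin 2 → G := ![x, y]
  have hf : ∀ w ∈ rels n m r, FreeGroup.lift f w = 1 := by
    intro w hw
    simp only [rels, Set.mem_insert_iff, Set.mem_singleton_iff] at hw
    rcases hw with rfl | rfl | rfl
    · simp [f, hx]
    · simp [f, hy]
    · simp [f, hxy]
  let ρ : PresentedGroup (rels n m r) →* G := PresentedGroup.toGroup hf
  have hρ0 : ρ (PresentedGroup.of 0) = x := PresentedGroup.toGroup.of hf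
  have hρ1 : ρ (PresentedGroup.of 1) = y := PresentedGroup.toGroup.of hf
  have hsurj : Function.Surjective ρ := by
    rw [← MonoidHom.range_eq_top, eq_top_iff, ← hgen, Subgroup.closure_le]
    rintro g (rfl | rfl)
    · exact ⟨_, hρ0⟩
    · exact ⟨_, hρ1⟩
  obtain ⟨hfin, hle⟩ := finite_and_card_le n m r hn hm
  haveI := hfin
  have hbij : Function.Bijective ρ := by
    rw [Nat.bijective_iff_surjective_and_card]
    refine ⟨hsurj, le_antisymm ?_ (Nat.card_le_card_of_surjective ρ hsurj)⟩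
    rw [hcard]
    exact hle
  exact ⟨(MulEquiv.ofBijective ρ hbij).symm⟩

end Cfsg.Agent.Lib.H4.ZGroup
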