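import Mathlib
import Cfsg.Agent.Lib.H4.ZGroup.Present
import Cfsg.Agent.Lib.H4.ZGroup.Cent

/-!
# The congruence `r ^ (n / rad n) ≡ 1 (mod m)` for metacyclic Frobenius complements
-/

set_option autoImplicit false

namespace Cfsg.Agent.Lib.H4.ZGroup

open Subgroup

/-- number theory: if `r ^ (n / p) ≡ 1` for all primes `p ∣ n` then `r ^ (n / rad n) ≡ 1` -/
theorem pow_div_rad_of_forall {n m r : ℕ} (hn : 0 < n)
    (h : ∀ p, p.Prime → p ∣ n → r ^ (n / p) % m = 1 % m) (hn1 : r ^ n % m = 1 % m) :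
    r ^ (n / ∏ p ∈ n.primeFactors, p) % m = 1 % m := by
  have key : ∀ k : ℕ, r ^ k % m = 1 % m ↔ ((r : ZMod m)) ^ k = 1 := by
    intro k
    rw [← Nat.cast_pow, ← Nat.cast_one (R := ZMod m), ZMod.natCast_eq_natCast_iff]
    rfl
  rw [key] at hn1 ⊢
  obtain ⟨P, hPdef⟩ : ∃ P, P = ∏ p ∈ n.primeFactors, p := ⟨_, rfl⟩
  rw [← hPdef]
  obtain ⟨d, hddef⟩ : ∃ d, d = orderOf (r : ZMod m) := ⟨_, rfl⟩
  have hdn : d ∣ n := by rw [hddef]; exact orderOf_dvd_of_pow_eq_one hn1
  obtain ⟨n', hn'⟩ := hdn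
  have hd0 : 0 < d := by
    rcases Nat.eq_zero_or_pos d with h0 | h0
    · rw [h0, zero_mul] at hn'; omega
    · exact h0
  have hrad : P ∣ n' := by
    rw [hPdef]
    apply Finset.prod_primes_dvd
    · intro p hp
      exact (Nat.prime_of_mem_primeFactors hp).prime
    · intro p hp
      have hpp := Nat.prime_of_mem_primeFactors hp
      have hpn := Nat.dvd_of_mem_primeFactors hp
      have h1 : d ∣ n / p := by
        rw [hddef]
        exact orderOf_dvd_of_pow_eq_one ((key _).1 (h p hpp hpn))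
      obtain ⟨c, hc⟩ := h1
      obtain ⟨n'', hn''⟩ := hpn
      rw [hn'', Nat.mul_div_cancel_left _ hpp.pos] at hc
      have h2 : d * n' = d * (p * c) := by rw [← hn', hn'', hc]; ring
      have h3 : n' = p * c := Nat.eq_of_mul_eq_mul_left hd0 h2
      exact ⟨c, h3⟩
  obtain ⟨e, he⟩ := hrad
  have hP0 : 0 < P := by
    rw [hPdef]
    exact Finset.prod_pos fun p hp => (Nat.prime_of_mem_primeFactors hp).pos
  have hdiv : n / P = d * e := by
    rw [hn', he]
    rw [show d * (P * e) = P * (d * e) by ring]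
    exact Nat.mul_div_cancel_left _ hP0
  rw [hdiv, pow_mul, hddef, pow_orderOf_eq_one, one_pow]

/-- the congruence for a metacyclic group in which elements of prime order commute -/
theorem pow_div_rad {G : Type*} [Group G] [Finite G] {x y : G} {n m r : ℕ}
    (hx : orderOf x = n) (hy : orderOf y = m) (hcop : n.Coprime m)
    (hxy : x⁻¹ * y * x = y ^ r)
    (hpq : ∀ p q, p.Prime → q.Prime → p ∣ n → q ∣ m →
      x ^ (n / p) * y ^ (m / q) = y ^ (m / q) * x ^ (n / p)) :
    r ^ (n / ∏ p ∈ n.primeFactors, p) % m = 1 % m := by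
  have hn : 0 < n := by rw [← hx]; exact orderOf_pos x
  have hconj : ∀ k : ℕ, (x ^ k)⁻¹ * y * x ^ k = y ^ (r ^ k) := by
    intro k
    have := conj_pow_pow_eq hxy 1 k
    rwa [pow_one, one_mul] at this
  have hmod : ∀ k : ℕ, x ^ k * y = y * x ^ k → r ^ k % m = 1 % m := by
    intro k hk
    have h1 : y ^ (r ^ k) = y ^ 1 := by
      rw [← hconj k, pow_one, mul_assoc, ← hk]
      group
    rw [pow_eq_pow_iff_modEq, hy] at h1
    exact h1
  apply pow_div_rad_of_forall hn
  · intro p hp hpn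
    apply hmod
    obtain ⟨n', hn'⟩ := hpn
    have hdiv : n / p = n' := by rw [hn']; exact Nat.mul_div_cancel_left _ hp.pos
    have hap : (x ^ (n / p)) ^ p = 1 := by
      rw [← pow_mul, hdiv, mul_comm, ← hn', ← hx, pow_orderOf_eq_one]
    apply commute_of_prime_order hp hap m y hy
    · exact Nat.Coprime.coprime_dvd_left ⟨n', hn'⟩ hcop
    · rw [hconj]
      exact pow_mem (mem_zpowers y) _
    · intro q hq hqm
      exact hpq p q hp hq ⟨n', hn'⟩ hqm
  · apply hmod
    rw [← hx, pow_orderOf_eq_one, one_mul, mul_one]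

end Cfsg.Agent.Lib.H4.ZGroup
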